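import Groth.Agent.ProjBC.Basic
import Groth.Agent.S3557
import Groth.Prelude.Def_CohB1

/-! Projective space over a field is irreducible. -/

set_option autoImplicit false
set_option backward.isDefEq.respectTransparency false
universe u
open CategoryTheory CategoryTheory.Limits AlgebraicGeometry

namespace Groth.Agent.REqLib

theorem isIntegral_projSpace (n : ℕ) (K : Type u) [Field K] :
    IsIntegral (Proj (CohB1.polyGrading n K)) := by
  refine (Groth.Agent.S3557.result (CohB1.polyGrading n K) ?_).2 ⟨⟨MvPolynomial.X 0, ?_, ?_⟩, ?_⟩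
  · exact fun f _ hf => hf.eq_zero
  · exact HomogeneousIdeal.mem_irrelevant_of_mem _ one_pos (MvPolynomial.isHomogeneous_X K 0)
  · exact MvPolynomial.X_ne_zero 0
  · exact fun f _ g _ h => mul_eq_zero.1 h

theorem projIso (n : ℕ) (R K : Type u) [CommRing R] [Field K] [Algebra R K] :
    Nonempty (Proj (CohB1.polyGrading n K) ≅ pullback (CohB1.ProjSpace.toSpec n R)
      (Spec.map (CommRingCat.ofHom (algebraMap R K)))) := by
  let B := MvPolynomial (Fin (n + 1)) R
  let A := MvPolynomial (Fin (n + 1)) K
  letI : Algebra B A := MvPolynomial.algebraMvPolynomial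
  haveI : IsScalarTower R B A := IsScalarTower.of_algebraMap_eq fun r =>
    (MvPolynomial.map_C _ r).symm
  let φ : CohB1.polyGrading n R →+*ᵍ CohB1.polyGrading n K :=
    { MvPolynomial.map (algebraMap R K) with
      map_mem := fun h => MvPolynomial.IsHomogeneous.map h _ }
  have hirr : HomogeneousIdeal.irrelevant (CohB1.polyGrading n K) ≤
      (HomogeneousIdeal.irrelevant (CohB1.polyGrading n R)).map φ := by
    refine (HomogeneousIdeal.irrelevant_le _).2 fun i hi => ?_
    intro x hx
    have hx' : x ∈ MvPolynomial.idealOfVars (Fin (n + 1)) K := by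
      rw [MvPolynomial.idealOfVars, ← Set.image_univ, MvPolynomial.mem_ideal_span_X_image]
      intro m hm
      have hd := hx (MvPolynomial.mem_support_iff.1 hm)
      by_contra h
      push Not at h
      have : m = 0 := Finsupp.ext fun j => by simpa using h j
      subst this
      simp at hd
      omega
    refine Ideal.span_le.2 ?_ hx'
    rintro _ ⟨j, rfl⟩
    have : φ (MvPolynomial.X j) = MvPolynomial.X j := MvPolynomial.map_X _ j
    rw [← this]
    exact Ideal.mem_map_of_mem _
      (HomogeneousIdeal.mem_irrelevant_of_mem _ one_pos (MvPolynomial.isHomogeneous_X _ j))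
  have h := Groth.Agent.ProjBC.isPullback (CohB1.polyGrading n R)
    (CohB1.polyGrading n K) φ (fun _ => rfl) hirr
  exact ⟨h.isoPullback⟩

theorem isIntegral_projSpaceOver (n : ℕ) (K : Type u) [Field K] :
    IsIntegral (CohB1.ProjSpaceOver n (Spec (CommRingCat.of K))) := by
  letI : Algebra (ULift.{u} ℤ) K :=
    ((Int.castRingHom K).comp (ULift.ringEquiv : ULift.{u} ℤ ≃+* ℤ).toRingHom).toAlgebra
  obtain ⟨e₀⟩ := projIso n (ULift.{u} ℤ) K
  have hb : specULiftZIsTerminal.from (Spec (CommRingCat.of K)) =
      Spec.map (CommRingCat.ofHom (algebraMap (ULift.{u} ℤ) K)) := specULiftZIsTerminal.hom_ext _ _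
  haveI := isIntegral_projSpace n K
  let e : Proj (CohB1.polyGrading n K) ≅ CohB1.ProjSpaceOver n (Spec (CommRingCat.of K)) :=
    e₀ ≪≫ pullback.congrHom rfl hb.symm
  haveI : Nonempty (CohB1.ProjSpaceOver n (Spec (CommRingCat.of K))) :=
    ⟨e.hom (Classical.arbitrary _)⟩
  exact AlgebraicGeometry.isIntegral_of_isOpenImmersion e.inv

end Groth.Agent.REqLib
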