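import Mathlib
import Groth.Agent.ProjMap.Bilin
import Groth.Agent.ProjBC.Basic
import Groth.Agent.S3557
import Groth.Agent.REqLib.P1Irred
import Groth.Prelude.Def_CohB1

/-!
# The projective line over a domain and the local rings of the projective line over a field
-/

set_option autoImplicit false
set_option backward.isDefEq.respectTransparency false
universe u
open CategoryTheory CategoryTheory.Limits AlgebraicGeometry MvPolynomial HomogeneousLocalization

namespace Groth.Agent.REqLib

theorem isIntegral_proj_domain (n : ℕ) (A : Type u) [CommRing A] [IsDomain A] :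
    IsIntegral (Proj (CohB1.polyGrading n A)) := by
  refine (Groth.Agent.S3557.result (CohB1.polyGrading n A) ?_).2 ⟨⟨MvPolynomial.X 0, ?_, ?_⟩, ?_⟩
  · exact fun f _ hf => hf.eq_zero
  · exact HomogeneousIdeal.mem_irrelevant_of_mem _ one_pos (MvPolynomial.isHomogeneous_X A 0)
  · exact MvPolynomial.X_ne_zero 0
  · exact fun f _ g _ h => mul_eq_zero.1 h

theorem projIsoOfRing (n : ℕ) (R K : Type u) [CommRing R] [CommRing K] [Algebra R K] :
    Nonempty (Proj (CohB1.polyGrading n K) ≅ pullback (CohB1.ProjSpace.toSpec n R)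
      (Spec.map (CommRingCat.ofHom (algebraMap R K)))) := by
  let B := MvPolynomial (Fin (n + 1)) R
  let A := MvPolynomial (Fin (n + 1)) K
  letI : Algebra B A := MvPolynomial.algebraMvPolynomial
  haveI : IsScalarTower R B A := IsScalarTower.of_algebraMap_eq fun r =>
    (MvPolynomial.map_C _ r).symm
  let φ : CohB1.polyGrading n R →+*ᵍ CohB1.polyGrading n K :=
    { MvPolynomial.map (algebraMap R K) with
      map_mem := fun h => MvPolynomial.IsHomogeneous.map h _ }
  have hirr : HomogeneousIdeal.irrelevant (CohB1.polyGrading n K) ≤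
      (HomogeneousIdeal.irrelevant (CohB1.polyGrading n R)).map φ := by
    refine (HomogeneousIdeal.irrelevant_le _).2 fun i hi => ?_
    intro x hx
    have hx' : x ∈ MvPolynomial.idealOfVars (Fin (n + 1)) K := by
      rw [MvPolynomial.idealOfVars, ← Set.image_univ, MvPolynomial.mem_ideal_span_X_image]
      intro m hm
      have hd := hx (MvPolynomial.mem_support_iff.1 hm)
      by_contra h
      push Not at h
      have : m = 0 := Finsupp.ext fun j => by simpa using h j
      subst this
      simp at hd
      omega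
    refine Ideal.span_le.2 ?_ hx'
    rintro _ ⟨j, rfl⟩
    have : φ (MvPolynomial.X j) = MvPolynomial.X j := MvPolynomial.map_X _ j
    rw [← this]
    exact Ideal.mem_map_of_mem _
      (HomogeneousIdeal.mem_irrelevant_of_mem _ one_pos (MvPolynomial.isHomogeneous_X _ j))
  have h := Groth.Agent.ProjBC.isPullback (CohB1.polyGrading n R)
    (CohB1.polyGrading n K) φ (fun _ => rfl) hirr
  exact ⟨h.isoPullback⟩

/-- Projective space over the spectrum of a ring is the `Proj` of the polynomial ring. -/
theorem projSpaceOverIso (n : ℕ) (A : Type u) [CommRing A] :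
    Nonempty (Proj (CohB1.polyGrading n A) ≅
      CohB1.ProjSpaceOver n (Spec (CommRingCat.of A))) := by
  letI : Algebra (ULift.{u} ℤ) A :=
    ((Int.castRingHom A).comp (ULift.ringEquiv : ULift.{u} ℤ ≃+* ℤ).toRingHom).toAlgebra
  obtain ⟨e₀⟩ := projIsoOfRing n (ULift.{u} ℤ) A
  have hb : specULiftZIsTerminal.from (Spec (CommRingCat.of A)) =
      Spec.map (CommRingCat.ofHom (algebraMap (ULift.{u} ℤ) A)) := specULiftZIsTerminal.hom_ext _ _
  exact ⟨e₀ ≪≫ pullback.congrHom rfl hb.symm⟩

theorem isIntegral_projSpaceOver_domain (n : ℕ) (A : Type u) [CommRing A] [IsDomain A] :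
    IsIntegral (CohB1.ProjSpaceOver n (Spec (CommRingCat.of A))) := by
  obtain ⟨e⟩ := projSpaceOverIso n A
  haveI := isIntegral_proj_domain n A
  haveI : Nonempty (CohB1.ProjSpaceOver n (Spec (CommRingCat.of A))) :=
    ⟨e.hom (Classical.arbitrary _)⟩
  exact AlgebraicGeometry.isIntegral_of_isOpenImmersion e.inv

variable (K : Type u) [Field K]

/-- The standard charts of the projective line over a field are principal ideal domains. -/
theorem isPID_away (c : Fin 2) :
    IsDomain (Away (CohB1.polyGrading 1 K) (X c : MvPolynomial (Fin 2) K)) ∧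
      IsPrincipalIdealRing (Away (CohB1.polyGrading 1 K) (X c : MvPolynomial (Fin 2) K)) := by
  let A := Away (CohB1.polyGrading 1 K) (X c : MvPolynomial (Fin 2) K)
  haveI : IsDomain (Localization.Away (X c : MvPolynomial (Fin 2) K)) :=
    IsLocalization.isDomain_localization
      (powers_le_nonZeroDivisors_of_noZeroDivisors (MvPolynomial.X_ne_zero c))
  have hdom : IsDomain A :=
    Function.Injective.isDomain (algebraMap A (Localization.Away (X c : MvPolynomial (Fin 2) K)))
      (val_injective _)
  refine ⟨hdom, ?_⟩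
  letI : Algebra K A := ((fromZeroRingHom (CohB1.polyGrading 1 K)
    (Submonoid.powers (X c : MvPolynomial (Fin 2) K))).comp
      (algebraMap K (CohB1.polyGrading 1 K 0))).toAlgebra
  obtain ⟨d, hdc, hd⟩ : ∃ d : Fin 2, d ≠ c ∧ ∀ i : Fin 2, i = c ∨ i = d := by
    fin_cases c
    · exact ⟨1, by simp, fun i => by fin_cases i <;> simp⟩
    · exact ⟨0, by simp, fun i => by fin_cases i <;> simp⟩
  let e : Fin 2 → A := ProjMap.coords (R := K) c (RingHom.id A)
  let ψ : Polynomial K →ₐ[K] A := Polynomial.aeval (e d)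
  refine IsPrincipalIdealRing.of_surjective ψ.toRingHom fun x => ?_
  obtain ⟨k, p, hp, rfl⟩ :=
    Away.mk_surjective (𝒜 := CohB1.polyGrading 1 K) (ProjMap.X_mem c) x
  let v : Fin 2 → Polynomial K := fun i => if i = c then 1 else Polynomial.X
  have hψv : ∀ i, ψ (v i) = e i := fun i => by
    by_cases hi : i = c
    · subst hi; simp [v, e, ψ]
    · obtain rfl := (hd i).resolve_left hi
      simp [v, ψ, hi]
  refine ⟨aeval v p, ?_⟩
  have hφ : ProjMap.IsAlg (R := K) c (RingHom.id A) := fun r => rfl
  have h := ProjMap.evalAway_mk (R := K) (v := e) (ProjMap.X_mem c)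
    (show IsUnit (aeval e (X c : MvPolynomial (Fin 2) K)) by simp [e]) k p hp
  rw [← ProjMap.eq_evalAway_coords c (RingHom.id A) hφ] at h
  simp only [RingHom.id_apply, aeval_X, e, ProjMap.coords_self, one_pow, mul_one] at h
  show ψ (aeval v p) = _
  rw [← AlgHom.comp_apply, comp_aeval]
  refine (DFunLike.congr_fun (congrArg MvPolynomial.aeval (funext hψv)) p).trans ?_
  exact h.symm

/-- The local rings of the projective line over a field are valuation rings. -/
theorem valuationRing_stalk (z : CohB1.ProjSpaceOver 1 (Spec (CommRingCat.of K))) :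
    ∃ h : IsDomain ((CohB1.ProjSpaceOver 1 (Spec (CommRingCat.of K))).presheaf.stalk z),
      @ValuationRing ((CohB1.ProjSpaceOver 1 (Spec (CommRingCat.of K))).presheaf.stalk z) _ h := by
  obtain ⟨e⟩ := projSpaceOverIso 1 K
  obtain ⟨c, y, hy⟩ := ProjMap.exists_chart K (e.inv z)
  obtain ⟨hdom, hpid⟩ := isPID_away K c
  haveI := hdom
  haveI := hpid
  let R : CommRingCat.{u} := CommRingCat.of (Away (CohB1.polyGrading 1 K) (X c : MvPolynomial (Fin 2) K))
  let g : Spec R ⟶ CohB1.ProjSpaceOver 1 (Spec (CommRingCat.of K)) := ProjMap.chart c ≫ e.hom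
  have hg : g y = z := by
    show e.hom (ProjMap.chart c y) = z
    rw [hy, ← Scheme.Hom.comp_apply, e.inv_hom_id]
    rfl
  subst hg
  let ε : (CohB1.ProjSpaceOver 1 (Spec (CommRingCat.of K))).presheaf.stalk (g y) ≃+*
      Localization.AtPrime y.asIdeal :=
    (asIso (g.stalkMap y)).commRingCatIsoToRingEquiv.trans
      (StructureSheaf.stalkIso R y).symm.toRingEquiv
  haveI : IsDomain (Localization.AtPrime y.asIdeal) := inferInstance
  haveI : IsPrincipalIdealRing (Localization.AtPrime y.asIdeal) :=
    ⟨fun I => by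
      obtain ⟨a, ha⟩ :=
        (IsPrincipalIdealRing.principal (I.under R))
      rw [← IsLocalization.map_comap y.asIdeal.primeCompl _ I, ha, Ideal.submodule_span_eq,
        Ideal.map_span, Set.image_singleton]
      exact ⟨_, rfl⟩⟩
  haveI hd : IsDomain ((CohB1.ProjSpaceOver 1 (Spec (CommRingCat.of K))).presheaf.stalk (g y)) :=
    ε.toMulEquiv.isDomain _
  haveI : IsPrincipalIdealRing
      ((CohB1.ProjSpaceOver 1 (Spec (CommRingCat.of K))).presheaf.stalk (g y)) :=
    IsPrincipalIdealRing.of_surjective ε.symm.toRingHom ε.symm.surjective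
  exact ⟨hd, ValuationRing.iff_local_bezout_domain.mpr ⟨inferInstance, inferInstance⟩⟩

/-- The morphism from the spectrum of a local ring is flat. -/
theorem flat_fromSpecStalk {S : Scheme.{u}} (x : S) : Flat (S.fromSpecStalk x) := by
  obtain ⟨_, ⟨U, hU, rfl⟩, hxU, -⟩ :=
    S.isBasis_affineOpens.exists_subset_of_mem_open (Set.mem_univ x) isOpen_univ
  rw [← hU.fromSpecStalk_eq_fromSpecStalk hxU, IsAffineOpen.fromSpecStalk]
  haveI : Flat (Spec.map (S.presheaf.germ U x hxU)) := by
    rw [HasRingHomProperty.Spec_iff (P := @Flat)]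
    letI : Algebra Γ(S, U) (S.presheaf.stalk x) :=
      TopCat.Presheaf.algebra_section_stalk S.presheaf ⟨x, hxU⟩
    haveI := hU.isLocalization_stalk ⟨x, hxU⟩
    show RingHom.Flat (algebraMap Γ(S, U) (S.presheaf.stalk x))
    rw [RingHom.flat_algebraMap_iff]
    exact IsLocalization.flat _ (hU.primeIdealOf ⟨x, hxU⟩).asIdeal.primeCompl
  infer_instance

end Groth.Agent.REqLib
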