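import Groth.Agent.ProjMap.Basic
import Groth.Prelude.Def_W4c5nonratstablectREq
import Mathlib

/-!
# Direct R-links cut out of an affine line

A morphism from an open subscheme of the affine line over `K` gives a direct R-link between the images
of `0` and `1`: the affine line is the standard chart of the projective line.
-/

set_option autoImplicit false
set_option backward.isDefEq.respectTransparency false
universe u
open CategoryTheory CategoryTheory.Limits AlgebraicGeometry MvPolynomial HomogeneousLocalization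
open scoped TensorProduct

namespace Groth.Agent.REqLib

/-- A morphism from the spectrum of a field whose point lies in an open factors through the open. -/
theorem exists_lift_opens {Y : Scheme.{u}} {K : Type u} [Field K]
    (x : Spec (CommRingCat.of K) ⟶ Y) (V : Y.Opens) (h : Set.range x.base ⊆ (V : Set Y)) :
    ∃ x' : Spec (CommRingCat.of K) ⟶ (V : Scheme.{u}), x' ≫ V.ι = x :=
  ⟨IsOpenImmersion.lift V.ι x (by rw [Scheme.Opens.range_ι]; exact h),
    IsOpenImmersion.lift_fac _ _ _⟩

/-- A chart `Spec D → Y` with a coordinate `y` taking all values in `K` gives an open immersion into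
`Y ⊗ K` of a scheme over the affine line through which all its rational points factor. -/
theorem exists_chart_aux {R D K : Type u} [CommRing R] [CommRing D] [Field K] [Algebra R D]
    [Algebra R K] {Y : Scheme.{u}} (f : Y ⟶ Spec (CommRingCat.of R))
    (χ : Spec (CommRingCat.of D) ⟶ Y) [IsOpenImmersion χ]
    (hch : χ ≫ f = Spec.map (CommRingCat.ofHom (algebraMap R D)))
    (y : D) (hφ : ∀ c : K, ∃ φ : D →ₐ[R] K, φ y = c) :
    ∃ (T : Scheme.{u}) (j : T ⟶ pullback f (Spec.map (CommRingCat.ofHom (algebraMap R K))))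
      (π : T ⟶ Spec (CommRingCat.of (Polynomial K))),
      IsOpenImmersion j ∧
      j ≫ pullback.snd _ _ = π ≫ Spec.map (CommRingCat.ofHom Polynomial.C) ∧
      ∀ c : K, ∃ e : Spec (CommRingCat.of K) ⟶ T,
        e ≫ j ≫ pullback.snd _ _ = 𝟙 _ ∧
          e ≫ π = Spec.map (CommRingCat.ofHom (Polynomial.evalRingHom c)) := by
  let m : pullback (Spec.map (CommRingCat.ofHom (algebraMap R D)))
        (Spec.map (CommRingCat.ofHom (algebraMap R K))) ⟶
      pullback f (Spec.map (CommRingCat.ofHom (algebraMap R K))) :=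
    pullback.map _ _ _ _ χ (𝟙 _) (𝟙 _)
      (by rw [Category.comp_id]; exact hch.symm) (by rw [Category.comp_id, Category.id_comp])
  haveI hm : IsOpenImmersion m :=
    MorphismProperty.pullbackMap (P := @IsOpenImmersion) ‹_› inferInstance hch.symm
      (Category.id_comp _).symm
  let j := (pullbackSpecIso R D K).inv ≫ m
  have hjs : j ≫ pullback.snd _ _ = Spec.map (CommRingCat.ofHom
      (Algebra.TensorProduct.includeRight (R := R) (A := D) (B := K)).toRingHom) := by
    simp only [j, m, Category.assoc, pullback.lift_snd, Category.comp_id]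
    exact pullbackSpecIso_inv_snd R D K
  let ρ : Polynomial K →+* D ⊗[R] K := Polynomial.eval₂RingHom
    (Algebra.TensorProduct.includeRight (R := R) (A := D) (B := K)).toRingHom (y ⊗ₜ 1)
  refine ⟨_, j, Spec.map (CommRingCat.ofHom ρ), inferInstance, ?_, fun c => ?_⟩
  · rw [hjs, ← Spec.map_comp, ← CommRingCat.ofHom_comp]
    congr 2
    ext a
    simp [ρ]
  · obtain ⟨φ, hy⟩ := hφ c
    let e : D ⊗[R] K →ₐ[R] K :=
      Algebra.TensorProduct.lift φ (AlgHom.id R K) (fun _ _ => Commute.all _ _)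
    refine ⟨Spec.map (CommRingCat.ofHom e.toRingHom), ?_, ?_⟩
    · rw [hjs, ← Spec.map_comp, ← CommRingCat.ofHom_comp, ← Spec.map_id]
      congr 1
      ext a
      simp [e]
    · rw [← Spec.map_comp, ← CommRingCat.ofHom_comp]
      congr 2
      refine Polynomial.ringHom_ext (fun a => ?_) ?_
      · simp [ρ, e]
      · simp [ρ, e, hy]

/-- The first chart of `P¹_R`. -/
theorem exists_chart (R K : Type u) [CommRing R] [Field K] [Algebra R K] :
    ∃ (T : Scheme.{u}) (j : T ⟶ pullback (CohB1.ProjSpace.toSpec 1 R)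
        (Spec.map (CommRingCat.ofHom (algebraMap R K))))
      (π : T ⟶ Spec (CommRingCat.of (Polynomial K))),
      IsOpenImmersion j ∧
      j ≫ pullback.snd _ _ = π ≫ Spec.map (CommRingCat.ofHom Polynomial.C) ∧
      ∀ c : K, ∃ e : Spec (CommRingCat.of K) ⟶ T,
        e ≫ j ≫ pullback.snd _ _ = 𝟙 _ ∧
          e ≫ π = Spec.map (CommRingCat.ofHom (Polynomial.evalRingHom c)) := by
  letI : Algebra R (Away (CohB1.polyGrading 1 R) (X (0 : Fin 2))) :=
    ((fromZeroRingHom (CohB1.polyGrading 1 R) (Submonoid.powers (X (0 : Fin 2)))).comp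
    (algebraMap R (CohB1.polyGrading 1 R 0))).toAlgebra
  haveI : IsOpenImmersion (ProjMap.chart (R := R) (0 : Fin 2)) := by
    unfold ProjMap.chart; infer_instance
  refine exists_chart_aux (CohB1.ProjSpace.toSpec 1 R) (ProjMap.chart (0 : Fin 2)) ?_
    (Away.mk (CohB1.polyGrading 1 R) (ProjMap.X_mem (0 : Fin 2)) 1 (X (1 : Fin 2))
      (by rw [one_smul]; exact ProjMap.X_mem (1 : Fin 2))) (fun c => ?_)
  · rw [ProjMap.awayι_toSpec, ← Spec.map_comp]; rfl
  · have hu : IsUnit (aeval (![1, c] : Fin 2 → K) (X (0 : Fin 2) : MvPolynomial (Fin 2) R)) := by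
      simp
    refine ⟨{ ProjMap.evalAway (R := R) (![1, c] : Fin 2 → K) (X (0 : Fin 2)) hu with
        commutes' := fun r => ProjMap.evalAway_fromZero (n := 1) _ (X (0 : Fin 2)) hu r }, ?_⟩
    have := ProjMap.evalAway_mk (R := R) (v := (![1, c] : Fin 2 → K)) (ProjMap.X_mem (0 : Fin 2)) hu 1
      (X (1 : Fin 2)) (by rw [one_smul]; exact ProjMap.X_mem (1 : Fin 2))
    rw [aeval_X, aeval_X] at this
    simpa using this

/-- There is an open immersion into the projective line over `K` of a scheme over the affine line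
through which all `K`-rational points of the affine line factor. -/
theorem exists_chart_P1 (K : Type u) [Field K] :
    ∃ (T : Scheme.{u}) (j : T ⟶ REq.P1K K) (π : T ⟶ Spec (CommRingCat.of (Polynomial K))),
      IsOpenImmersion j ∧
      j ≫ REq.P1K.toSpec K = π ≫ Spec.map (CommRingCat.ofHom Polynomial.C) ∧
      ∀ c : K, ∃ e : Spec (CommRingCat.of K) ⟶ T,
        e ≫ j ≫ REq.P1K.toSpec K = 𝟙 _ ∧
          e ≫ π = Spec.map (CommRingCat.ofHom (Polynomial.evalRingHom c)) := by
  letI : Algebra (ULift.{u} ℤ) K :=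
    ((Int.castRingHom K).comp (ULift.ringEquiv : ULift.{u} ℤ ≃+* ℤ).toRingHom).toAlgebra
  obtain ⟨T, j, π, hj, hjs, he⟩ := exists_chart (ULift.{u} ℤ) K
  haveI := hj
  have hb : Spec.map (CommRingCat.ofHom (algebraMap (ULift.{u} ℤ) K)) =
      specULiftZIsTerminal.from (Spec (CommRingCat.of K)) := specULiftZIsTerminal.hom_ext _ _
  let i : _ ≅ REq.P1K K := pullback.congrHom (f₁ := CohB1.ProjSpace.toSpec 1 (ULift.{u} ℤ)) rfl hb
  have hi : i.hom ≫ REq.P1K.toSpec K = pullback.snd _ _ := by
    show i.hom ≫ pullback.snd _ _ = _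
    simp [i]
  refine ⟨T, j ≫ i.hom, π, inferInstance, by rw [Category.assoc, hi, hjs], fun c => ?_⟩
  obtain ⟨e, he1, he2⟩ := he c
  exact ⟨e, by rw [Category.assoc, hi, he1], he2⟩

variable {k : Type u} [Field k] {S Y : Scheme.{u}} (f : S ⟶ Spec (CommRingCat.of k))
  {K : Type u} [Field K] [Algebra k K]

/-- If a line `L : A¹_K → Y` over `k` carries `0` and `1` into the open `V`, and `g : V → X` is a
morphism over `k`, then the images in `X` of these two points are directly R-linked. -/
theorem elemLink_of_line (q : Y ⟶ Spec (CommRingCat.of k))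
    (L : Spec (CommRingCat.of (Polynomial K)) ⟶ Y)
    (hL : L ≫ q = Spec.map (CommRingCat.ofHom Polynomial.C) ≫ REq.specMap k K)
    (V : Y.Opens) (g : (V : Scheme.{u}) ⟶ S) (hg : g ≫ f = V.ι ≫ q)
    (A' B' : Spec (CommRingCat.of K) ⟶ (V : Scheme.{u}))
    (hA' : A' ≫ V.ι = Spec.map (CommRingCat.ofHom (Polynomial.evalRingHom 0)) ≫ L)
    (hB' : B' ≫ V.ι = Spec.map (CommRingCat.ofHom (Polynomial.evalRingHom 1)) ≫ L)
    (A B : REq.Pts f K) (hA : A' ≫ g = A.1) (hB : B' ≫ g = B.1) :
    REq.ElemLink f K A B := by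
  obtain ⟨T, j, π, hj, hjs, he⟩ := exists_chart_P1 K
  haveI := hj
  let W : T.Opens := (π ≫ L) ⁻¹ᵁ V
  let h' : (W : Scheme.{u}) ⟶ S := ((π ≫ L) ∣_ V) ≫ g
  have hh' : h' ≫ f = W.ι ≫ j ≫ REq.P1K.toSpec K ≫ REq.specMap k K := by
    simp only [h', Category.assoc, hg]
    rw [← Category.assoc, morphismRestrict_ι, reassoc_of% hjs]
    simp only [Category.assoc, hL, W]
  have key : ∀ (c : K) (C' : Spec (CommRingCat.of K) ⟶ (V : Scheme.{u})),
      C' ≫ V.ι = Spec.map (CommRingCat.ofHom (Polynomial.evalRingHom c)) ≫ L →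
      ∃ a : Spec (CommRingCat.of K) ⟶ (W : Scheme.{u}),
        a ≫ W.ι ≫ j ≫ REq.P1K.toSpec K = 𝟙 _ ∧ a ≫ h' = C' ≫ g := by
    intro c C' hC'
    obtain ⟨e, he1, he2⟩ := he c
    have heq : e ≫ π ≫ L = C' ≫ V.ι := by rw [hC', reassoc_of% he2]
    obtain ⟨a, ha⟩ := exists_lift_opens e W (by
      rintro _ ⟨p, rfl⟩
      show (π ≫ L).base (e.base p) ∈ V
      have : (π ≫ L).base (e.base p) = (C' ≫ V.ι).base p := by
        rw [← heq]; rfl
      rw [this]
      exact (C'.base p).2)
    refine ⟨a, by rw [reassoc_of% ha, he1], ?_⟩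
    have : a ≫ ((π ≫ L) ∣_ V) = C' := by
      rw [← cancel_mono V.ι, Category.assoc, morphismRestrict_ι]
      rw [← Category.assoc, ha]; exact heq
    rw [← Category.assoc, this]
  obtain ⟨a, ha1, ha2⟩ := key 0 A' hA'
  obtain ⟨b, hb1, hb2⟩ := key 1 B' hB'
  let iso := j.isoImage W
  have hι : iso.hom ≫ (j ''ᵁ W).ι = W.ι ≫ j := j.isoImage_hom_ι W
  refine ⟨j ''ᵁ W, iso.inv ≫ h', a ≫ iso.hom, b ≫ iso.hom, ?_, ?_, ?_, ?_, ?_⟩
  · rw [Category.assoc, hh', Iso.inv_comp_eq, reassoc_of% hι]
  · rw [Category.assoc, reassoc_of% hι]; exact ha1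
  · rw [Category.assoc, reassoc_of% hι]; exact hb1
  · simp only [Category.assoc, Iso.hom_inv_id_assoc]; rw [ha2, hA]
  · simp only [Category.assoc, Iso.hom_inv_id_assoc]; rw [hb2, hB]

/-- The base morphism of the affine line over `K`, as a morphism over `k`. -/
theorem line_base :
    Spec.map (CommRingCat.ofHom Polynomial.C) ≫ REq.specMap k K =
      Spec.map (CommRingCat.ofHom ((Polynomial.C).comp (algebraMap k K))) := by
  rw [REq.specMap, ← Spec.map_comp]; rfl

/-- The data of a retraction through an open of affine space links all pairs of points. -/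
theorem elemLink_of_retraction (n : ℕ) (U : S.Opens)
    (V : (Spec (CommRingCat.of (MvPolynomial (Fin n) k))).Opens)
    (a : (U : Scheme.{u}) ⟶ (V : Scheme.{u})) (b : (V : Scheme.{u}) ⟶ (U : Scheme.{u}))
    (hab : a ≫ b = 𝟙 (U : Scheme.{u}))
    (ha : a ≫ V.ι ≫ Spec.map (CommRingCat.ofHom (algebraMap k (MvPolynomial (Fin n) k))) = U.ι ≫ f)
    (hb : b ≫ U.ι ≫ f = V.ι ≫ Spec.map (CommRingCat.ofHom (algebraMap k (MvPolynomial (Fin n) k))))
    (A B : REq.Pts (U.ι ≫ f) K) : REq.ElemLink (U.ι ≫ f) K A B := by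
  have hP : ∀ C : REq.Pts (U.ι ≫ f) K, ∃ P : Fin n → K,
      C.1 ≫ a ≫ V.ι = Spec.map (CommRingCat.ofHom (aeval P : MvPolynomial (Fin n) k →ₐ[k] K).toRingHom) := by
    intro C
    obtain ⟨ψ, hψ⟩ := Spec.map_surjective (C.1 ≫ a ≫ V.ι)
    refine ⟨fun i => ψ.hom (X i), ?_⟩
    rw [← hψ]
    congr 1
    have hk : CommRingCat.ofHom (algebraMap k (MvPolynomial (Fin n) k)) ≫ ψ =
        CommRingCat.ofHom (algebraMap k K) := by
      apply Spec.map_injective
      rw [Spec.map_comp, hψ, Category.assoc, Category.assoc, ha]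
      exact C.2
    ext : 1
    refine MvPolynomial.ringHom_ext (fun r => ?_) (fun i => ?_)
    · have := congrArg (fun φ => φ.hom r) hk
      simpa using this
    · simp
  obtain ⟨P, hP'⟩ := hP A
  obtain ⟨Q, hQ'⟩ := hP B
  let lin : MvPolynomial (Fin n) k →+* Polynomial K :=
    eval₂Hom ((Polynomial.C).comp (algebraMap k K))
      (fun i => Polynomial.C (P i) + Polynomial.X * Polynomial.C (Q i - P i))
  have hc : ∀ (c : K) (R : Fin n → K), (∀ i, P i + c * (Q i - P i) = R i) →
      Spec.map (CommRingCat.ofHom (aeval R : MvPolynomial (Fin n) k →ₐ[k] K).toRingHom) =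
      Spec.map (CommRingCat.ofHom (Polynomial.evalRingHom c)) ≫ Spec.map (CommRingCat.ofHom lin) := by
    intro c R hR
    rw [← Spec.map_comp]
    congr 1
    ext : 1
    refine MvPolynomial.ringHom_ext (fun r => ?_) (fun i => ?_)
    · simp [lin]
    · simp [lin, hR i]
  refine elemLink_of_line (U.ι ≫ f) _ (Spec.map (CommRingCat.ofHom lin)) ?_ V b hb (A.1 ≫ a) (B.1 ≫ a)
    ?_ ?_ A B ?_ ?_
  · rw [line_base, ← Spec.map_comp]
    congr 1
    ext r
    simp [lin]
  · rw [Category.assoc, hP']; exact hc 0 P (fun i => by simp)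
  · rw [Category.assoc, hQ']; exact hc 1 Q (fun i => by simp)
  · rw [Category.assoc, hab, Category.comp_id]
  · rw [Category.assoc, hab, Category.comp_id]

end Groth.Agent.REqLib
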